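import Groth.Agent.S0354
import Groth.Agent.Grpsch.TangentPoint
import Groth.Agent.Ega4fib.H141.TopConn
import Mathlib.AlgebraicGeometry.Morphisms.QuasiFinite

/-!
# The dimension of an algebraic group is finite; it is positive if the group is connected and not finite
-/

set_option autoImplicit false

open CategoryTheory Limits MonoidalCategory CartesianMonoidalCategory MonObj AlgebraicGeometry

namespace Groth.Agent.Sga7.H742.P1Dim

universe u

variable {K : Type u} [Field K]

/-- The dimension of a group scheme locally of finite type over a field is a natural number. -/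
theorem exists_dim (A : Over (Spec (CommRingCat.of K))) [GrpObj A] [LocallyOfFiniteType A.hom] :
    ∃ g : ℕ, topologicalKrullDim A.left = g := by
  have h1 := Groth.Agent.S0354.result K A _ (Grpsch.TangentPoint.isClosed_unit A)
  have : IsLocallyNoetherian A.left := LocallyOfFiniteType.isLocallyNoetherian A.hom
  have h2 : ringKrullDim (A.left.presheaf.stalk (η[A].left (IsLocalRing.closedPoint K))) < ⊤ :=
    ringKrullDim_lt_top
  have h3 : 0 ≤ ringKrullDim (A.left.presheaf.stalk (η[A].left (IsLocalRing.closedPoint K))) :=
    ringKrullDim_nonneg_of_nontrivial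
  rw [h1] at h2 h3
  generalize topologicalKrullDim A.left = d at h2 h3
  cases d with
  | bot => simp at h3
  | coe d =>
    cases d with
    | top => simp at h2
    | coe d => exact ⟨d, rfl⟩

/-- An algebraic group of dimension zero is finite. -/
theorem isFinite_of_dim_eq_zero (A : Over (Spec (CommRingCat.of K))) [LocallyOfFiniteType A.hom]
    [QuasiCompact A.hom] (h : topologicalKrullDim A.left = 0) : IsFinite A.hom := by
  have : IsLocallyNoetherian A.left := LocallyOfFiniteType.isLocallyNoetherian A.hom
  have h1 : IsLocallyArtinian A.left := .of_topologicalKrullDim_le_zero h.le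
  have h3 : DiscreteTopology A.left := inferInstance
  have h4 : CompactSpace A.left := QuasiCompact.compactSpace_of_compactSpace A.hom
  have h5 : Finite A.left := finite_of_compact_of_discrete
  have h6 : LocallyQuasiFinite A.hom := .of_finite_preimage_singleton _ fun x => Set.toFinite _
  have h7 : IsLocallyArtinian (Spec (CommRingCat.of K)) := inferInstance
  exact IsFinite.of_locallyQuasiFinite A.hom

/-- The dimension of an algebraic group which is not finite is positive. -/
theorem exists_dim_pos (A : Over (Spec (CommRingCat.of K))) [GrpObj A] [LocallyOfFiniteType A.hom]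
    [QuasiCompact A.hom] (h : ¬ IsFinite A.hom) :
    ∃ g : ℕ, 0 < g ∧ topologicalKrullDim A.left = g := by
  obtain ⟨g, hg⟩ := exists_dim A
  refine ⟨g, Nat.pos_of_ne_zero fun h0 => h ?_, hg⟩
  subst h0
  exact isFinite_of_dim_eq_zero A (by rw [hg]; simp)

end Groth.Agent.Sga7.H742.P1Dim
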