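import Groth.Agent.Etcore.AbTors
import Groth.Agent.Sga7.H742.P1Dim

/-!
# Torsion points of an abelian variety of positive dimension are unbounded
-/

set_option autoImplicit false

open CategoryTheory Limits MonoidalCategory CartesianMonoidalCategory MonObj AlgebraicGeometry

namespace Groth.Agent.Sga7.H742.P1Ab

universe u

/-- The number of `l ^ n`-torsion points of an abelian variety which is not finite is unbounded. -/
theorem exists_torsion (K : Type u) [Field K] [IsSepClosed K]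
    (A : Over (Spec (CommRingCat.of K))) [GrpObj A] [IsProper A.hom] [GeometricallyIntegral A.hom]
    (h : ¬ IsFinite A.hom) (l : ℕ) (hl : l.Prime) (hlK : (l : K) ≠ 0) (B : ℕ) :
    ∃ (n : ℕ) (s : Finset (𝟙_ (Over (Spec (CommRingCat.of K))) ⟶ A)),
      (∀ x ∈ s, x ^ (l ^ n) = 1) ∧ B < s.card := by
  obtain ⟨g, hg0, hg⟩ := P1Dim.exists_dim_pos A h
  have hlB : ((l ^ B : ℕ) : K) ≠ 0 := by
    rw [Nat.cast_pow]; exact pow_ne_zero _ hlK
  have h1 : Nat.card {x : 𝟙_ (Over (Spec (CommRingCat.of K))) ⟶ A // x ^ (l ^ B) = 1} =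
      (l ^ B) ^ (2 * g) := Etcore.AbTors.card_torsion A g hg (l ^ B) hlB
  have h2 : B < (l ^ B) ^ (2 * g) := by
    calc B < l ^ B := Nat.lt_pow_self hl.one_lt
      _ = (l ^ B) ^ 1 := (pow_one _).symm
      _ ≤ (l ^ B) ^ (2 * g) := Nat.pow_le_pow_right (Nat.pow_pos hl.pos) (by omega)
  have h3 : Finite {x : 𝟙_ (Over (Spec (CommRingCat.of K))) ⟶ A // x ^ (l ^ B) = 1} :=
    Nat.finite_of_card_ne_zero (by omega)
  have h4 : {x : 𝟙_ (Over (Spec (CommRingCat.of K))) ⟶ A | x ^ (l ^ B) = 1}.Finite := h3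
  refine ⟨B, h4.toFinset, fun x hx => ?_, ?_⟩
  · simpa using hx
  · rw [← Set.ncard_eq_toFinset_card _ h4]
    change B < Nat.card {x : 𝟙_ (Over (Spec (CommRingCat.of K))) ⟶ A // x ^ (l ^ B) = 1}
    rw [h1]
    exact h2

end Groth.Agent.Sga7.H742.P1Ab
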