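import Groth.Agent.Sga3B.DSAff
import Mathlib.Algebra.Polynomial.Laurent
import Mathlib.RingTheory.RootsOfUnity.AlgebraicallyClosed
import Mathlib.GroupTheory.OrderOfElement
import Mathlib.GroupTheory.PGroup

/-!
# A nontrivial homomorphism from the multiplicative group produces unbounded torsion

* `eq_one_of_bounded`: let `j : 𝔾ₘ ⟶ A` be a homomorphism over an algebraically closed field. If the number of
  `l ^ n`-torsion points of `A` is bounded independently of `n` (`l` a prime invertible in `K`) then `j = 1`.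
-/

set_option autoImplicit false

open CategoryTheory Limits MonoidalCategory CartesianMonoidalCategory MonObj AlgebraicGeometry

namespace Groth.Agent.Sga7.H742.P1Gm

open Groth.Agent.Sga3B.DSAff Groth.Agent.Sga3B.DSPts

universe u

section Group

lemma exists_pow_root {P : Type*} [Monoid P] (l : ℕ) (hdiv : ∀ x : P, ∃ y, y ^ l = x) (n : ℕ) (x : P) :
    ∃ y, y ^ (l ^ n) = x := by
  induction n generalizing x with
  | zero => exact ⟨x, by simp⟩
  | succ n ih =>
    obtain ⟨y, rfl⟩ := hdiv x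
    obtain ⟨z, rfl⟩ := ih y
    exact ⟨z, by rw [pow_succ, pow_mul]⟩

/-- A homomorphism from an `l`-divisible group to a group with bounded `l`-power torsion kills the
`l`-power torsion. -/
lemma map_eq_one_of_bounded {P Q : Type*} [Group P] [Group Q] (φ : P →* Q) (l B : ℕ) (hl : l.Prime)
    (hB : ∀ (n : ℕ) (s : Finset Q), (∀ x ∈ s, x ^ (l ^ n) = 1) → s.card ≤ B)
    (hdiv : ∀ x : P, ∃ y, y ^ l = x) (x : P) (n : ℕ) (hx : x ^ (l ^ n) = 1) : φ x = 1 := by
  classical
  obtain ⟨y, hy⟩ := exists_pow_root l hdiv B x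
  have h1 : y ^ (l ^ (B + n)) = 1 := by rw [pow_add, pow_mul, hy, hx]
  have h2 : (φ y) ^ (l ^ (B + n)) = 1 := by rw [← map_pow, h1, map_one]
  obtain ⟨r, -, hr⟩ := (Nat.dvd_prime_pow hl).mp (orderOf_dvd_of_pow_eq_one h2)
  have hpos : 0 < orderOf (φ y) := by rw [hr]; exact Nat.pow_pos hl.pos
  have h3 := hB (B + n) ((Finset.range (orderOf (φ y))).image fun i => (φ y) ^ i) (by
    intro z hz
    obtain ⟨i, -, rfl⟩ := Finset.mem_image.mp hz
    rw [← pow_mul, mul_comm, pow_mul, h2, one_pow])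
  rw [Finset.card_image_of_injOn (by
    intro i hi k hk hik
    exact pow_injOn_Iio_orderOf (by simpa using hi) (by simpa using hk) hik), Finset.card_range, hr] at h3
  have h4 : r < l ^ r := Nat.lt_pow_self hl.one_lt
  have h5 : l ^ r ∣ l ^ B := pow_dvd_pow l (by omega)
  have h6 : (φ y) ^ (l ^ B) = 1 := orderOf_dvd_iff_pow_eq_one.mp (hr ▸ h5)
  rw [← hy, map_pow, h6]

end Group

section Laurent

variable {K : Type u} [Field K]

/-- evaluation of `K[ℤ]` at a unit -/
noncomputable def ev (x : Kˣ) : MonoidAlgebra K (Multiplicative ℤ) →ₐ[K] K :=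
  MonoidAlgebra.lift K K (Multiplicative ℤ) ((Units.coeHom K).comp (zpowersHom Kˣ x))

open LaurentPolynomial in
lemma ev_toMultiplicative (x : Kˣ) (p : Polynomial K) :
    ev x (AddMonoidAlgebra.toMultiplicativeAlgEquiv K K ℤ (Polynomial.toLaurent p)) = p.eval (x : K) := by
  have h : (((ev x).comp (AddMonoidAlgebra.toMultiplicativeAlgEquiv K K ℤ).toAlgHom).comp
      (Polynomial.toLaurentAlg : Polynomial K →ₐ[K] K[T;T⁻¹])) = Polynomial.aeval (x : K) := by
    apply Polynomial.algHom_ext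
    change ev x (AddMonoidAlgebra.toMultiplicativeAlgEquiv K K ℤ (Polynomial.toLaurent Polynomial.X)) = _
    rw [Polynomial.toLaurent_X, LaurentPolynomial.T, AddMonoidAlgebra.toMultiplicativeAlgEquiv_single,
      ev, MonoidAlgebra.lift_single]
    simp
  exact (DFunLike.congr_fun h p).trans (by rw [Polynomial.aeval_def]; simp [Polynomial.eval₂_eq_eval_map])

open LaurentPolynomial in
/-- A Laurent polynomial with infinitely many zeros vanishes. -/
lemma eq_zero_of_infinite (r : MonoidAlgebra K (Multiplicative ℤ)) (X : Set Kˣ) (hX : X.Infinite)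
    (h : ∀ x ∈ X, ev x r = 0) : r = 0 := by
  obtain ⟨f, rfl⟩ := (AddMonoidAlgebra.toMultiplicativeAlgEquiv K K ℤ).surjective r
  obtain ⟨n, p, hp⟩ := LaurentPolynomial.exists_T_pow f
  have h1 : ∀ x ∈ X, p.eval (x : K) = 0 := by
    intro x hx
    rw [← ev_toMultiplicative, hp]
    have : (AddMonoidAlgebra.toMultiplicativeAlgEquiv K K ℤ) (f * T (n : ℤ)) =
        (AddMonoidAlgebra.toMultiplicativeAlgEquiv K K ℤ) f *
        (AddMonoidAlgebra.toMultiplicativeAlgEquiv K K ℤ) (T (n : ℤ)) := map_mul _ _ _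
    rw [this, map_mul, h x hx, zero_mul]
  have h2 : p = 0 := by
    refine Polynomial.eq_zero_of_infinite_isRoot p ?_
    refine Set.Infinite.mono ?_ (hX.image (f := ((↑) : Kˣ → K)) Units.val_injective.injOn)
    rintro _ ⟨x, hx, rfl⟩
    exact h1 x hx
  rw [h2, map_zero] at hp
  have h3 : f = f * T (n : ℤ) * T (-(n : ℤ)) := by
    rw [_root_.mul_assoc, ← T_add]; simp
  rw [h3, ← hp, zero_mul, map_zero]

end Laurent

section Ext

open Groth.Agent.Books.AffBridge

variable {K : Type u} [Field K]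

/-- Two morphisms from `Spec K[ℤ]` to a separated `K`-scheme which agree at infinitely many rational
points are equal. -/
theorem ext_of_infinite {A : Over (Spec (CommRingCat.of K))} [IsSeparated A.hom]
    (f g : SpecOver K (MonoidAlgebra K (Multiplicative ℤ)) ⟶ A) (X : Set Kˣ) (hX : X.Infinite)
    (h : ∀ x ∈ X, specMap K (ev x) ≫ f = specMap K (ev x) ≫ g) : f = g := by
  have haff : IsAffine (SpecOver K (MonoidAlgebra K (Multiplicative ℤ))).left :=
    inferInstanceAs (IsAffine (Spec (CommRingCat.of (MonoidAlgebra K (Multiplicative ℤ)))))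
  have hker : (equalizer.ι f g).left.ker = ⊥ := by
    refine Scheme.IdealSheafData.ext_of_isAffine ?_
    rw [Scheme.Hom.ker_apply]
    simp only [Scheme.IdealSheafData.ideal_bot, Pi.bot_apply]
    rw [eq_bot_iff]
    intro r hr
    have hr' : (equalizer.ι f g).left.appTop r = 0 := hr
    have h0 : (Scheme.ΓSpecIso (CommRingCat.of (MonoidAlgebra K (Multiplicative ℤ)))).hom r = 0 := by
      refine eq_zero_of_infinite _ X hX fun x hx => ?_
      have h1 : (equalizer.lift (specMap K (ev x)) (h x hx)).left ≫ (equalizer.ι f g).left =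
          Spec.map (CommRingCat.ofHom (ev x).toRingHom) := by
        rw [← Over.comp_left, equalizer.lift_ι]; rfl
      have h2 := congr(Scheme.Hom.appTop $h1 r)
      rw [Scheme.Hom.comp_appTop, CommRingCat.comp_apply, hr', map_zero] at h2
      have h3 := congr($(Scheme.ΓSpecIso_naturality (CommRingCat.ofHom (ev x).toRingHom)) r)
      rw [CommRingCat.comp_apply, CommRingCat.comp_apply, ← h2] at h3
      exact h3.symm.trans (map_zero (Scheme.ΓSpecIso (CommRingCat.of K)).hom.hom)
    have h4 : r = (Scheme.ΓSpecIso (CommRingCat.of (MonoidAlgebra K (Multiplicative ℤ)))).inv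
        ((Scheme.ΓSpecIso (CommRingCat.of (MonoidAlgebra K (Multiplicative ℤ)))).hom r) := by
      simp
    rw [h4, h0, map_zero]
    exact Ideal.mem_bot.mpr rfl
  have : IsIso (equalizer.ι f g).left := IsClosedImmersion.isIso_iff_ker_eq_bot.mpr hker
  ext1
  rw [← cancel_epi (equalizer.ι f g).left]
  exact congr($(equalizer.condition f g).left)

end Ext

section Main

open Groth.Agent.Books.AffBridge Groth.Agent.Sga3B.AffPts

/-- units of a ring as characters of `ℤ` -/
def unitChar (E : Type*) [CommRing E] : Eˣ →* (Multiplicative ℤ →* E) where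
  toFun x := (Units.coeHom E).comp (zpowersHom Eˣ x)
  map_one' := by ext; simp
  map_mul' x y := by ext; simp

lemma unitChar_map {E F : Type*} [CommRing E] [CommRing F] (φ : E →+* F) (x : Eˣ) :
    (φ : E →* F).comp (unitChar E x) = unitChar F (Units.map (φ : E →* F) x) := by
  ext; simp [unitChar]

lemma ev_eq {K : Type u} [Field K] (x : Kˣ) : ev x = chAlg (unitChar K x) := rfl

variable (K : Type u) [Field K]

/-- constants as functions -/
noncomputable def constHom (T : Over (Spec (CommRingCat.of K))) : K →+* Γ(T.left, ⊤) :=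
  ((Scheme.ΓSpecIso (CommRingCat.of K)).inv ≫ T.hom.appTop).hom

lemma constHom_comp {T T' : Over (Spec (CommRingCat.of K))} (f : T' ⟶ T) :
    f.left.appTop.hom.comp (constHom K T) = constHom K T' := by
  rw [constHom, constHom, ← Over.w f, Scheme.Hom.comp_appTop]
  rfl

/-- The constant points of the multiplicative group. -/
noncomputable def unitPt (T : Over (Spec (CommRingCat.of K))) :
    Kˣ →* (T ⟶ Red.Gm (Spec (CommRingCat.of K))) :=
  (dsEquiv T ℤ).toMonoidHom.comp
    ((unitChar Γ(T.left, ⊤)).comp (Units.map (constHom K T : K →* Γ(T.left, ⊤))))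

lemma comp_unitPt {T T' : Over (Spec (CommRingCat.of K))} (f : T' ⟶ T) (x : Kˣ) :
    f ≫ unitPt K T x = unitPt K T' x := by
  change f ≫ dsEquiv T ℤ _ = dsEquiv T' ℤ _
  rw [dsEquiv_naturality]
  congr 1
  change ((f.left.appTop.hom : Γ(T.left, ⊤) →+* Γ(T'.left, ⊤)) : Γ(T.left, ⊤) →* Γ(T'.left, ⊤)).comp
    (unitChar _ (Units.map _ x)) = unitChar _ (Units.map _ x)
  rw [unitChar_map, ← constHom_comp K f]
  rfl

lemma unitPt_dsTo (x : Kˣ) :
    unitPt K (SpecOver K K) x ≫ dsTo K ℤ = specMap K (ev x) := by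
  rw [comp_dsTo]
  have h1 : fnChar (unitPt K (SpecOver K K) x) = (unitChar (Fn (SpecOver K K))
      (Units.map (algebraMap K (Fn (SpecOver K K)) : K →* Fn (SpecOver K K)) x)) :=
    dsChar_dsEquiv (T := SpecOver K K) (M := ℤ) _
  rw [h1]
  refine (affPt_spec _).trans ?_
  congr 1
  rw [comp_chAlg, ev_eq]
  congr 1
  exact (unitChar_map ((fnSpec (R := K) K).toAlgHom.toRingHom) _).trans (by
    congr 1
    ext
    exact (fnSpec (R := K) K).commutes x)

lemma unitPt_eq (x : Kˣ) :
    unitPt K (SpecOver K K) x = specMap K (ev x) ≫ dsFrom K ℤ := by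
  rw [← cancel_mono (dsTo K ℤ), unitPt_dsTo, Category.assoc, dsFrom_dsTo, Category.comp_id]

lemma infinite_torsion [IsSepClosed K] (l : ℕ) (hl : l.Prime) (hlK : (l : K) ≠ 0) :
    {x : Kˣ | ∃ n, x ^ (l ^ n) = 1}.Infinite := by
  intro hfin
  have : NeZero (l : K) := ⟨hlK⟩
  have : NeZero l := ⟨hl.ne_zero⟩
  let N := hfin.toFinset.card
  have h1 : Nat.card (rootsOfUnity (l ^ N) K) = l ^ N :=
    HasEnoughRootsOfUnity.natCard_rootsOfUnity K (l ^ N)
  have h2 : ((rootsOfUnity (l ^ N) K : Subgroup Kˣ) : Set Kˣ) ⊆ hfin.toFinset := by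
    intro x hx
    simp only [Set.Finite.coe_toFinset, Set.mem_ofPred_eq]
    exact ⟨N, (mem_rootsOfUnity _ _).mp hx⟩
  have h3 : Nat.card ((rootsOfUnity (l ^ N) K : Subgroup Kˣ) : Set Kˣ) ≤ N := by
    have := Set.ncard_le_ncard h2 hfin.toFinset.finite_toSet
    rwa [Set.ncard_coe_finset] at this
  have h4 : N < l ^ N := Nat.lt_pow_self hl.one_lt
  have h5 : Nat.card ((rootsOfUnity (l ^ N) K : Subgroup Kˣ) : Set Kˣ) = l ^ N := h1
  omega

/-- A homomorphism from the multiplicative group to a separated group with bounded `l`-power torsion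
is trivial. -/
theorem eq_one_of_bounded [IsAlgClosed K] (A : Over (Spec (CommRingCat.of K))) [GrpObj A]
    [IsSeparated A.hom] (l : ℕ) (hl : l.Prime) (hlK : (l : K) ≠ 0) (B : ℕ)
    (hB : ∀ (n : ℕ) (s : Finset (𝟙_ (Over (Spec (CommRingCat.of K))) ⟶ A)),
      (∀ x ∈ s, x ^ (l ^ n) = 1) → s.card ≤ B)
    (j : Red.Gm (Spec (CommRingCat.of K)) ⟶ A) [IsMonHom j] : j = 1 := by
  let φ : Kˣ →* (𝟙_ (Over (Spec (CommRingCat.of K))) ⟶ A) :=
    MonoidHom.mk' (fun x => unitPt K _ x ≫ j) (fun x y => by rw [map_mul, MonObj.mul_comp])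
  have hdiv : ∀ x : Kˣ, ∃ y, y ^ l = x := by
    intro x
    obtain ⟨y, hy⟩ := IsAlgClosed.exists_pow_nat_eq (x : K) hl.pos
    have hy0 : y ≠ 0 := by
      rintro rfl
      rw [zero_pow hl.ne_zero] at hy
      exact x.ne_zero hy.symm
    exact ⟨Units.mk0 y hy0, by ext; simpa using hy⟩
  have h1 : ∀ x ∈ {x : Kˣ | ∃ n, x ^ (l ^ n) = 1}, specMap K (ev x) ≫ dsFrom K ℤ ≫ j =
      specMap K (ev x) ≫ 1 := by
    rintro x ⟨n, hn⟩
    have h2 : unitPt K _ x ≫ j = 1 := map_eq_one_of_bounded φ l B hl hB hdiv x n hn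
    rw [← Category.assoc, ← unitPt_eq, ← comp_unitPt K (toUnit _) x, Category.assoc, h2,
      MonObj.comp_one, MonObj.comp_one]
  have h3 := ext_of_infinite (dsFrom K ℤ ≫ j) 1 _ (infinite_torsion K l hl hlK) h1
  rw [← cancel_epi (dsFrom K ℤ), h3, MonObj.comp_one]

end Main

end Groth.Agent.Sga7.H742.P1Gm
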