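import Groth.Agent.Sga3B.RedIdComp
import Groth.Agent.Grpsch.AbEtale
import Groth.Agent.Ega4fib.H141.TopConn
import Mathlib.AlgebraicGeometry.Morphisms.QuasiFinite

/-!
# Algebraic groups whose reduced identity component is trivial

* `isFinite_of_isOpen_pt`: an algebraic group over an algebraically closed field whose unit point is
  isolated is finite.
* `exists_smooth_of_not_isFinite`: an algebraic group which is not finite has a closed smooth connected
  subgroup which is not finite.
-/

set_option autoImplicit false

open CategoryTheory Limits MonoidalCategory CartesianMonoidalCategory MonObj AlgebraicGeometry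

namespace Groth.Agent.Sga7.H742.P1Red

open Groth.Agent.Books.AlgPts Groth.Agent.Grpsch.AbEtale

universe u

variable {K : Type u} [Field K] [IsAlgClosed K]

/-- An algebraic group whose unit point is isolated is finite. -/
theorem isFinite_of_isOpen_pt (A : Over (Spec (CommRingCat.of K))) [GrpObj A]
    [LocallyOfFiniteType A.hom] [QuasiCompact A.hom] (h : IsOpen {pt η[A]}) : IsFinite A.hom := by
  have hJ : JacobsonSpace A.left := LocallyOfFiniteType.jacobsonSpace A.hom
  have h1 : ∀ x : A.left, IsClosed {x} → IsOpen {x} := by
    intro x hx
    obtain ⟨z, rfl⟩ := exists_pt x hx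
    have h2 : (transl z).left (pt η[A]) = pt z := by
      have := congr(($(eta_transl z)).left (IsLocalRing.closedPoint K))
      exact this
    have h3 : {pt z} = (transl z).left '' {pt η[A]} := by
      rw [Set.image_singleton, h2]
    rw [h3]
    exact (transl z).left.isOpenEmbedding.isOpenMap _ h
  have h2 : ∀ x : A.left, IsClosed {x} := by
    intro x
    by_contra hx
    have h3 : (closedPoints A.left)ᶜ.Nonempty := ⟨x, hx⟩
    have h4 : IsClosed (closedPoints A.left)ᶜ := by
      rw [isClosed_compl_iff]
      have : closedPoints A.left = ⋃ y : closedPoints A.left, {y.1} := by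
        ext z; simp
      rw [this]
      exact isOpen_iUnion fun y => h1 _ y.2
    obtain ⟨y, hy, hyc⟩ := nonempty_inter_closedPoints h3 h4.isLocallyClosed
    exact hy hyc
  have h3 : DiscreteTopology A.left :=
    discreteTopology_iff_isOpen_singleton.mpr fun x => h1 x (h2 x)
  have h4 : CompactSpace A.left := QuasiCompact.compactSpace_of_compactSpace A.hom
  have h5 : Finite A.left := finite_of_compact_of_discrete
  have h6 : LocallyQuasiFinite A.hom := .of_finite_preimage_singleton _ fun x => Set.toFinite _
  have h7 : IsLocallyArtinian (Spec (CommRingCat.of K)) := inferInstance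
  exact IsFinite.of_locallyQuasiFinite A.hom

/-- An algebraic group which is not finite has a closed smooth connected subgroup which is not finite. -/
theorem exists_smooth_of_not_isFinite (A : Over (Spec (CommRingCat.of K))) [GrpObj A]
    [LocallyOfFiniteType A.hom] [QuasiCompact A.hom] (h : ¬ IsFinite A.hom) :
    ∃ (U : Over (Spec (CommRingCat.of K))) (_ : GrpObj U) (u : U ⟶ A), IsMonHom u ∧
      IsClosedImmersion u.left ∧ Smooth U.hom ∧ ConnectedSpace U.left ∧ ¬ IsFinite U.hom := by
  obtain ⟨U, _, u, hu, hcl, hsm, hconn, hr⟩ := Sga3B.RedIdComp.exists_redIdComp A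
  refine ⟨U, inferInstance, u, hu, hcl, hsm, hconn, fun hfin => h ?_⟩
  apply isFinite_of_isOpen_pt A
  have h1 : Finite U.left := by
    have : Finite (U.hom ⁻¹' {IsLocalRing.closedPoint K} : Set U.left) :=
      (U.hom.finite_preimage_singleton (IsLocalRing.closedPoint K)).to_subtype
    refine Finite.of_surjective
      (Subtype.val : (U.hom ⁻¹' {IsLocalRing.closedPoint K} : Set U.left) → U.left)
      fun x => ⟨⟨x, ?_⟩, rfl⟩
    exact Subsingleton.elim (α := PrimeSpectrum K) _ _
  have h0 : LocallyQuasiFinite U.hom := inferInstance
  have h2 : IsLocallyArtinian U.left := .of_locallyQuasiFinite U.hom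
  have h3 : DiscreteTopology U.left := inferInstance
  have h4 : Subsingleton U.left := subsingleton_of_preconnected_totallyDisconnected
  have h5 : connectedComponent (pt η[A]) = {pt η[A]} := by
    rw [← hr]
    have h6 : pt η[A] ∈ Set.range u.left := by rw [hr]; exact mem_connectedComponent
    obtain ⟨y, hy⟩ := h6
    ext z
    constructor
    · rintro ⟨y', rfl⟩
      rw [Subsingleton.elim y' y, hy]; rfl
    · rintro rfl
      exact ⟨y, hy⟩
  rw [← h5]
  have : IsLocallyNoetherian A.left := LocallyOfFiniteType.isLocallyNoetherian A.hom
  have : CompactSpace A.left := QuasiCompact.compactSpace_of_compactSpace A.hom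
  have : IsNoetherian A.left := {}
  exact Ega4fib.H141.TopConn.isOpen_connectedComponent _

end Groth.Agent.Sga7.H742.P1Red
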